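import Groth.Agent.SmoothLift.Main
import Groth.Agent.CAlgML.Descent
import Mathlib.RingTheory.Etale.Descent
import Mathlib.AlgebraicGeometry.Pullbacks

/-!
Formal smoothness descends along faithfully flat affine base change.
-/

set_option autoImplicit false
set_option backward.isDefEq.respectTransparency false

universe u

open CategoryTheory CategoryTheory.Limits AlgebraicGeometry TensorProduct

namespace Groth.Agent.SmoothDesc

theorem formallySmooth_of_tensor (A T B : Type u) [CommRing A] [CommRing T] [CommRing B] [Algebra A T]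
    [Algebra A B] [Module.FaithfullyFlat A T] [Algebra.FormallySmooth T (T ⊗[A] B)] :
    Algebra.FormallySmooth A B := by
  rw [Algebra.formallySmooth_iff]
  constructor
  · let _ : Algebra T (B ⊗[A] T) := Algebra.TensorProduct.rightAlgebra
    let e : B ⊗[A] T ≃ₐ[T] T ⊗[A] B :=
      .ofRingEquiv (f := Algebra.TensorProduct.comm A B T) <| by simp [RingHom.algebraMap_toAlgebra]
    have : Algebra.FormallySmooth T (B ⊗[A] T) := .of_equiv e.symm
    let e' : (B ⊗[A] T) ⊗[B] Ω[B⁄A] ≃ₗ[B ⊗[A] T] Ω[B ⊗[A] T⁄T] :=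
      KaehlerDifferential.tensorKaehlerEquiv A T B (B ⊗[A] T)
    have : Module.Projective (B ⊗[A] T) ((B ⊗[A] T) ⊗[B] Ω[B⁄A]) := .of_equiv e'.symm
    exact CAlgML.projective_of_faithfullyFlat (S := B ⊗[A] T)
  · have : Subsingleton (T ⊗[A] Algebra.H1Cotangent A B) :=
      (Algebra.tensorH1CotangentOfFlat A B T).subsingleton
    exact Module.FaithfullyFlat.lTensor_reflects_triviality A T (Algebra.H1Cotangent A B)

theorem formallySmooth_of_specMap {R B : Type u} [CommRing R] [CommRing B] [Algebra R B]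
    (h : MoreMor.IsFormallySmoothHom (Spec.map (CommRingCat.ofHom (algebraMap R B)))) :
    Algebra.FormallySmooth R B := by
  refine Algebra.FormallySmooth.iff_comp_surjective.mpr fun C _ _ I hI g => ?_
  obtain ⟨l, h₁, h₂⟩ := h C I hI (Spec.map (CommRingCat.ofHom g.toRingHom))
    (Spec.map (CommRingCat.ofHom (algebraMap R C))) (by
      rw [← Spec.map_comp, ← Spec.map_comp]
      congr 1
      ext r
      exact (g.commutes r).symm)
  obtain ⟨m, rfl⟩ := Spec.map_surjective l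
  rw [← Spec.map_comp] at h₁ h₂
  refine ⟨{ m.hom with commutes' := fun r => congr($(Spec.map_injective h₂) r) }, ?_⟩
  ext x
  exact congr($(Spec.map_injective h₁) x)

theorem isFormallySmoothHom_of_isOpenImmersion {P Q : Scheme.{u}} (e : P ⟶ Q) [IsOpenImmersion e] :
    MoreMor.IsFormallySmoothHom e :=
  FlatMorLib.isFormallySmoothHom_of_isFormallyEtaleHom
    (FlatMorLib.isFormallyEtaleHom_of_isOpenImmersion e)

/-- Formal smoothness of a morphism of affine schemes descends along faithfully flat base change. -/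
theorem isFormallySmoothHom_of_affine_ff {U Z Z' U' : Scheme.{u}} [IsAffine U] [IsAffine Z] [IsAffine Z']
    {h : U ⟶ Z} {c : Z' ⟶ Z} [Flat c] [Surjective c] {q : U' ⟶ U} {h' : U' ⟶ Z'}
    (sq : IsPullback q h' h c) (hh : MoreMor.IsFormallySmoothHom h') : MoreMor.IsFormallySmoothHom h := by
  let φ := h.appTop
  let ψ := c.appTop
  algebraize [φ.hom, ψ.hom]
  have : Module.FaithfullyFlat Γ(Z, ⊤) Γ(Z', ⊤) :=
    (RingHom.faithfullyFlat_algebraMap_iff.1 ((Flat.flat_and_surjective_iff_faithfullyFlat_of_isAffine c).1 ⟨‹_›, ‹_›⟩))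
  have sqS : IsPullback (q ≫ U.isoSpec.hom) (h' ≫ Z'.isoSpec.hom) (Spec.map φ) (Spec.map ψ) :=
    sq.of_iso (Iso.refl _) U.isoSpec Z'.isoSpec Z.isoSpec (by simp) (by simp)
      (Scheme.isoSpec_hom_naturality h).symm (Scheme.isoSpec_hom_naturality c).symm
  have sqT := (isPullback_SpecMap_of_isPushout _ _ _ _ (CommRingCat.isPushout_tensorProduct Γ(Z, ⊤) Γ(U, ⊤) Γ(Z', ⊤)))
  let e := sqT.isoIsPullback _ _ sqS
  have he : Spec.map (CommRingCat.ofHom (Algebra.TensorProduct.includeRight.toRingHom :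
      Γ(Z', ⊤) →+* Γ(U, ⊤) ⊗[Γ(Z, ⊤)] Γ(Z', ⊤))) = e.hom ≫ h' ≫ Z'.isoSpec.hom :=
    (sqT.isoIsPullback_hom_snd _ _ sqS).symm
  have h1 := FlatMorLib.isFormallySmoothHom_comp (isFormallySmoothHom_of_isOpenImmersion e.hom)
    (FlatMorLib.isFormallySmoothHom_comp hh (isFormallySmoothHom_of_isOpenImmersion Z'.isoSpec.hom))
  rw [← he] at h1
  let _ : Algebra Γ(Z', ⊤) (Γ(U, ⊤) ⊗[Γ(Z, ⊤)] Γ(Z', ⊤)) := Algebra.TensorProduct.rightAlgebra
  have h2 : Algebra.FormallySmooth Γ(Z', ⊤) (Γ(U, ⊤) ⊗[Γ(Z, ⊤)] Γ(Z', ⊤)) := formallySmooth_of_specMap h1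
  have : Algebra.FormallySmooth Γ(Z', ⊤) (Γ(Z', ⊤) ⊗[Γ(Z, ⊤)] Γ(U, ⊤)) :=
    .of_equiv (AlgEquiv.ofRingEquiv (f := (Algebra.TensorProduct.comm Γ(Z, ⊤) Γ(U, ⊤) Γ(Z', ⊤)).toRingEquiv)
      (by simp [RingHom.algebraMap_toAlgebra]))
  have h3 : MoreMor.IsFormallySmoothHom (Spec.map φ) :=
    SmoothLift.isFormallySmoothHom_SpecMap φ (formallySmooth_of_tensor _ Γ(Z', ⊤) _)
  have e2 : h = U.isoSpec.hom ≫ Spec.map φ ≫ Z.isoSpec.inv := by
    rw [Scheme.isoSpec_hom_naturality_assoc, Iso.hom_inv_id, Category.comp_id]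
  rw [e2]
  exact FlatMorLib.isFormallySmoothHom_comp (isFormallySmoothHom_of_isOpenImmersion _)
    (FlatMorLib.isFormallySmoothHom_comp h3 (isFormallySmoothHom_of_isOpenImmersion _))

/-- Formal smoothness over an affine scheme descends along faithfully flat affine base change. -/
theorem isFormallySmoothHom_of_ff {U Z Z' U' : Scheme.{u}} [IsAffine Z] [IsAffine Z']
    {h : U ⟶ Z} {c : Z' ⟶ Z} [Flat c] [Surjective c] {q : U' ⟶ U} {h' : U' ⟶ Z'}
    (sq : IsPullback q h' h c) (hh : MoreMor.IsFormallySmoothHom h') : MoreMor.IsFormallySmoothHom h := by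
  refine SmoothLift.isFormallySmoothHom_of_locally h fun x => ?_
  obtain ⟨U₀, hU₀, hx, -⟩ := exists_isAffineOpen_mem_and_subset (show x ∈ (⊤ : U.Opens) from trivial)
  have : IsAffine U₀.toScheme := hU₀
  exact ⟨U₀, hx, isFormallySmoothHom_of_affine_ff ((isPullback_morphismRestrict q U₀).paste_vert sq.flip.flip)
    (FlatMorLib.isFormallySmoothHom_comp (isFormallySmoothHom_of_isOpenImmersion _) hh)⟩

end Groth.Agent.SmoothDesc
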