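import Groth.Agent.SmoothDesc.Ring
import Mathlib.AlgebraicGeometry.Morphisms.Smooth
import Mathlib.AlgebraicGeometry.Morphisms.Etale

/-!
Smoothness descends along fppf coverings of the source (schemes).
-/

set_option autoImplicit false
set_option backward.isDefEq.respectTransparency false

universe u

open CategoryTheory CategoryTheory.Limits AlgebraicGeometry

namespace Groth.Agent.SmoothDesc

theorem smooth_of_fppf_comp {X Y Z : Scheme.{u}} (f : X ⟶ Y) (g : Y ⟶ Z) [hs : Surjective f]
    [hf : Flat f] [hp : LocallyOfFinitePresentation f] [h : Smooth (f ≫ g)] : Smooth g :=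
  GenFlat.descend_fppf_of_ring (P := @Smooth) (fun A B C _ _ _ φ ψ hψ hff h => by
    algebraize [φ, ψ, ψ.comp φ]
    exact smooth_of_faithfullyFlat A B C) f g hf hp hs h

end Groth.Agent.SmoothDesc
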