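import Groth.Agent.RegLocus.FieldTensor
import Groth.Agent.RegLocus.Smooth
import Groth.Agent.CAlgJac.Field
import Groth.Agent.STCILib.Smooth
import Groth.Agent.SmoothPt.Basic
import Groth.Agent.Unram.Descent
import Groth.Agent.GenFlat.FppfSource

/-!
Smoothness descends along fppf coverings of the source (rings).
-/

set_option autoImplicit false
set_option maxHeartbeats 800000

universe u

open TensorProduct

namespace Groth.Agent.SmoothDesc

/-- A finite type algebra over a field with a faithfully flat smooth algebra over it is smooth. -/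
theorem formallySmooth_of_faithfullyFlat_field (k B C : Type u) [Field k] [CommRing B] [CommRing C] [Algebra k B]
    [Algebra k C] [Algebra B C] [IsScalarTower k B C] [Algebra.FinitePresentation k B] [Algebra.Smooth k C]
    [Module.FaithfullyFlat B C] : Algebra.FormallySmooth k B := by
  rw [← Algebra.smoothLocus_eq_univ_iff, Set.eq_univ_iff_forall]
  intro q
  let K := AlgebraicClosure k
  let g := (Algebra.TensorProduct.map (IsScalarTower.toAlgHom k B C) (AlgHom.id k K)).toRingHom
  let : Algebra (B ⊗[k] K) (C ⊗[k] K) := g.toAlgebra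
  have : Module.Flat (B ⊗[k] K) (C ⊗[k] K) := RegLocus.flat_map_tensor k K B C
  have : IsNoetherianRing (B ⊗[k] K) :=
    (have : IsNoetherianRing (K ⊗[k] B) := Algebra.FiniteType.isNoetherianRing K _
    isNoetherianRing_of_ringEquiv (K ⊗[k] B) (Algebra.TensorProduct.comm k K B).toRingEquiv)
  obtain ⟨Q, hQ⟩ := PrimeSpectrum.comap_surjective_of_faithfullyFlat (A := B) (B := C) q
  obtain ⟨Q', hQ'⟩ := PrimeSpectrum.comap_surjective_of_faithfullyFlat (A := C) (B := C ⊗[k] K) Q
  have hreg : ∀ (P : Ideal (K ⊗[k] C)) [P.IsPrime], IsRegularLocalRing (Localization.AtPrime P) := by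
    intro P _
    have : Algebra.IsSmoothAt K P := inferInstanceAs (Algebra.FormallySmooth K (Localization.AtPrime P))
    refine RegLocus.regular_of_smoothAt K (K ⊗[k] C) P ?_
    exact IsRegularRing.isRegularLocalRing_localization _
  have hQreg := RegLocus.regular_of_equiv (Algebra.TensorProduct.comm k K C).toRingEquiv hreg Q'.asIdeal
  have hq₁ := RegLocus.regular_descend (B ⊗[k] K) (C ⊗[k] K) Q'.asIdeal hQreg
  let q₁ : Ideal (B ⊗[k] K) := Q'.asIdeal.comap (algebraMap (B ⊗[k] K) (C ⊗[k] K))
  let e := (Algebra.TensorProduct.comm k K B).toRingEquiv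
  let q' : Ideal (K ⊗[k] B) := q₁.comap e.toRingHom
  have hq' : IsRegularLocalRing (Localization.AtPrime q') := by
    have : (q'.primeCompl).map e.toMonoidHom = q₁.primeCompl := by
      ext x
      simp only [Submonoid.mem_map, Ideal.mem_primeCompl_iff, q', Ideal.mem_comap]
      exact ⟨fun ⟨y, hy, hxy⟩ => by subst hxy; exact hy, fun hx => ⟨e.symm x, by simpa using hx, by simp⟩⟩
    exact IsRegularLocalRing.of_ringEquiv (R := Localization.AtPrime q₁)
      (IsLocalization.ringEquivOfRingEquiv (Localization.AtPrime q') (Localization.AtPrime q₁) e this).symm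
  let : Algebra B (K ⊗[k] B) := Algebra.TensorProduct.rightAlgebra
  have hunder : q'.under B = q.asIdeal := by
    have h1 : q.asIdeal = (Q'.asIdeal.comap (algebraMap C (C ⊗[k] K))).comap (algebraMap B C) := by
      rw [← hQ, ← hQ']; rfl
    rw [h1, Ideal.comap_comap, Ideal.under_def, Ideal.comap_comap, Ideal.comap_comap]
    congr 1
  have : Algebra.IsSmoothAt K q' := by
    have := STCILib.formallySmooth_of_perfectField K (IsLocalRing.ResidueField (Localization.AtPrime q'))
    exact (CAlgJac.formallySmooth_iff_isRegularLocalRing_of_essFiniteType K (Localization.AtPrime q')).2 hq'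
  have := Unram.isSmoothAt_of_baseChange_of_flat (A := k) (T := K) (B := B) q'
  change Algebra.FormallySmooth k (Localization.AtPrime q.asIdeal)
  obtain rfl : q = ⟨q'.under B, inferInstance⟩ := PrimeSpectrum.ext hunder.symm
  exact this

/-- Smoothness descends along faithfully flat finitely presented maps. -/
theorem smooth_of_faithfullyFlat (A B C : Type u) [CommRing A] [CommRing B] [CommRing C] [Algebra A B]
    [Algebra A C] [Algebra B C] [IsScalarTower A B C] [Algebra.FinitePresentation B C]
    [Module.FaithfullyFlat B C] [Algebra.Smooth A C] : Algebra.Smooth A B := by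
  have : Algebra.FinitePresentation A B := GenFlat.finitePresentation_of_faithfullyFlat A B C
  have : Module.Flat A C := inferInstance
  have : Module.Flat A B := Unram.flat_of_flat_faithfullyFlat B C
  refine ⟨?_, inferInstance⟩
  rw [← Algebra.smoothLocus_eq_univ_iff, Set.eq_univ_iff_forall]
  intro q
  let p : Ideal A := q.asIdeal.under A
  have : q.asIdeal.LiesOver p := ⟨rfl⟩
  have : Module.Flat A (Localization.AtPrime q.asIdeal) :=
    .trans A B (Localization.AtPrime q.asIdeal)
  let κ := p.ResidueField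
  let : Algebra (κ ⊗[A] B) (κ ⊗[A] C) :=
    (Algebra.TensorProduct.map (AlgHom.id κ κ) (IsScalarTower.toAlgHom A B C)).toRingHom.toAlgebra
  have : IsScalarTower κ (κ ⊗[A] B) (κ ⊗[A] C) := .of_algebraMap_eq fun x => by
    simp [RingHom.algebraMap_toAlgebra]
  let : Algebra B (κ ⊗[A] B) := Algebra.TensorProduct.rightAlgebra
  let : Algebra C (κ ⊗[A] C) := Algebra.TensorProduct.rightAlgebra
  let : Algebra B (κ ⊗[A] C) := ((algebraMap C (κ ⊗[A] C)).comp (algebraMap B C)).toAlgebra
  have : IsScalarTower B C (κ ⊗[A] C) := .of_algebraMap_eq fun _ => rfl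
  have : IsScalarTower B (κ ⊗[A] B) (κ ⊗[A] C) := .of_algebraMap_eq fun x => by
    simp [RingHom.algebraMap_toAlgebra]
  have : IsScalarTower A B (κ ⊗[A] C) := .of_algebraMap_eq fun x => by
    rw [RingHom.algebraMap_toAlgebra, RingHom.comp_apply, ← IsScalarTower.algebraMap_apply A B C,
      ← IsScalarTower.algebraMap_apply A C (κ ⊗[A] C)]
  have : IsScalarTower A (κ ⊗[A] B) (κ ⊗[A] C) := IsScalarTower.to₁₃₄ A κ (κ ⊗[A] B) (κ ⊗[A] C)
  have hpo : Algebra.IsPushout B C (κ ⊗[A] B) (κ ⊗[A] C) :=
    (Algebra.IsPushout.comp_iff A (S := B) (R' := κ) (S' := κ ⊗[A] B) (T := C) (T' := κ ⊗[A] C)).1 inferInstance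
  have := hpo.symm
  have : Module.FaithfullyFlat (κ ⊗[A] B) (κ ⊗[A] C) :=
    Module.FaithfullyFlat.of_linearEquiv _ _
      (Algebra.IsPushout.equiv B (κ ⊗[A] B) C (κ ⊗[A] C)).toLinearEquiv.symm
  have : Algebra.FormallySmooth κ (κ ⊗[A] B) := formallySmooth_of_faithfullyFlat_field κ _ (κ ⊗[A] C)
  exact SmoothPt.isSmoothAt_of_flatAt_of_fiber p q.asIdeal

end Groth.Agent.SmoothDesc
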